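import Mathlib
import Cfsg.Agent.Lib.Helper28.M11CG.Graph
import Cfsg.Agent.Lib.Helper4.CGC1

/-!
# S3413 (helper28): the involution graph of `M11` has at most 7920 automorphisms

Stabiliser chain `165 * 12 * 2 * 2` along four vertices, then rigidity: every vertex is the only
one with its relations (adjacent / number of common neighbours) to two or three vertices already
known to be fixed.  Generated certificates, checked by `decide +kernel` on the bit table.
-/

set_option autoImplicit false

namespace Cfsg.Agent.Lib.Helper28.M11CG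

open Finset

/-- the number of common neighbours -/
def cnt (i j : Fin 165) : ℕ := (univ.filter (fun k : Fin 165 => InvAdj i k ∧ InvAdj j k)).card

/-- the number of bits below 165 -/
def pc (m : ℕ) : ℕ := ((List.range 165).filter (fun k => m.testBit k)).length

theorem card_filter_fin (P : ℕ → Bool) :
    (univ.filter (fun k : Fin 165 => P k.val = true)).card =
      ((List.range 165).filter P).length := by
  rw [Finset.card_filter, Fin.sum_univ_eq_sum_range (fun k => if P k = true then 1 else 0) 165,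
    ← Finset.card_filter, ← List.toFinset_range, ← List.toFinset_filter,
    List.toFinset_card_of_nodup (List.Nodup.filter _ List.nodup_range)]

theorem cnt_eq (i j : Fin 165) : cnt i j = pc (rowMask i.val &&& rowMask j.val) := by
  unfold cnt pc
  rw [← card_filter_fin]
  apply congrArg Finset.card
  apply Finset.filter_congr
  intro k _
  simp only [InvAdj, Nat.testBit_and, Bool.and_eq_true]

theorem cnt_map {σ : Equiv.Perm (Fin 165)} (hσ : σ ∈ InvAut) (i j : Fin 165) :
    cnt (σ i) (σ j) = cnt i j := by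
  unfold cnt
  symm
  apply Finset.card_bij (fun k _ => σ k)
  · intro k hk
    simp only [mem_filter, mem_univ, true_and] at hk ⊢
    rw [hσ, hσ]
    exact hk
  · intro a _ b _ h
    exact σ.injective h
  · intro k hk
    simp only [mem_filter, mem_univ, true_and] at hk
    refine ⟨σ⁻¹ k, ?_, by simp⟩
    simp only [mem_filter, mem_univ, true_and]
    have e : σ (σ⁻¹ k) = k := by simp
    have h1 := hσ i (σ⁻¹ k)
    have h2 := hσ j (σ⁻¹ k)
    rw [e] at h1 h2
    exact ⟨h1.1 hk.1, h2.1 hk.2⟩

/-- the relation of two vertices: `4` equal, `5` adjacent, else the number of common neighbours -/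
def rel (i j : Fin 165) : ℕ := if i = j then 4 else if InvAdj i j then 5 else cnt i j

/-- the same, computed on the bit table -/
def relB (i j : Fin 165) : ℕ :=
  if i = j then 4 else if (rowMask i.val).testBit j.val = true then 5
  else pc (rowMask i.val &&& rowMask j.val)

theorem rel_eq (i j : Fin 165) : rel i j = relB i j := by
  unfold rel relB InvAdj
  rw [cnt_eq]

theorem rel_map {σ : Equiv.Perm (Fin 165)} (hσ : σ ∈ InvAut) (i j : Fin 165) :
    rel (σ i) (σ j) = rel i j := by
  unfold rel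
  rw [cnt_map hσ]
  by_cases h : i = j
  · subst h; simp
  · have h' : σ i ≠ σ j := fun e => h (σ.injective e)
    rw [if_neg h, if_neg h']
    by_cases ha : InvAdj i j
    · rw [if_pos ha, if_pos ((hσ i j).2 ha)]
    · rw [if_neg ha, if_neg (fun e => ha ((hσ i j).1 e))]

theorem relB_map {σ : Equiv.Perm (Fin 165)} (hσ : σ ∈ InvAut) (i j : Fin 165) :
    relB (σ i) (σ j) = relB i j := by
  rw [← rel_eq, ← rel_eq, rel_map hσ]

theorem fix2 {ρ : Equiv.Perm (Fin 165)} (hρ : ρ ∈ InvAut) {a b : Fin 165} (w : Fin 165)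
    (ha : ρ a = a) (hb : ρ b = b)
    (hu : ∀ x : Fin 165, relB x a = relB w a → relB x b = relB w b → x = w) : ρ w = w := by
  apply hu
  · have := relB_map hρ w a
    rwa [ha] at this
  · have := relB_map hρ w b
    rwa [hb] at this

theorem fix3 {ρ : Equiv.Perm (Fin 165)} (hρ : ρ ∈ InvAut) {a b c : Fin 165} (w : Fin 165)
    (ha : ρ a = a) (hb : ρ b = b) (hc : ρ c = c)
    (hu : ∀ x : Fin 165, relB x a = relB w a → relB x b = relB w b → relB x c = relB w c →
      x = w) : ρ w = w := by
  apply hu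
  · have := relB_map hρ w a
    rwa [ha] at this
  · have := relB_map hρ w b
    rwa [hb] at this
  · have := relB_map hρ w c
    rwa [hc] at this

/-- the base of the stabiliser chain -/
def q1 : Fin 165 := 0
/-- the base of the stabiliser chain -/
def q2 : Fin 165 := 9
/-- the base of the stabiliser chain -/
def q3 : Fin 165 := 47
/-- the base of the stabiliser chain -/
def q4 : Fin 165 := 78

/-- candidates for the image of `q2` -/
def S2 : Finset (Fin 165) := univ.filter (fun w => relB w q1 = 5)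
/-- candidates for the image of `q3` -/
def S3 : Finset (Fin 165) := univ.filter (fun w => relB w q1 = 5 ∧ relB w q2 = 3)
/-- candidates for the image of `q4` -/
def S4 : Finset (Fin 165) := univ.filter (fun w => relB w q2 = 5 ∧ relB w q1 = 3)

theorem card_S2 : S2.card = 12 := by decide +kernel
theorem card_S3 : S3.card = 2 := by decide +kernel
theorem card_S4 : S4.card = 2 := by decide +kernel

set_option maxRecDepth 100000 in
theorem eq_one_of_fix {ρ : Equiv.Perm (Fin 165)} (hρ : ρ ∈ InvAut) (h0 : ρ 0 = 0)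
    (h9 : ρ 9 = 9) (h47 : ρ 47 = 47) (h78 : ρ 78 = 78) : ρ = 1 := by
  have h12 : ρ 12 = 12 := fix2 hρ 12 h0 h9 (by decide +kernel)
  have h48 : ρ 48 = 48 := fix2 hρ 48 h0 h47 (by decide +kernel)
  have h58 : ρ 58 = 58 := fix2 hρ 58 h9 h47 (by decide +kernel)
  have h60 : ρ 60 = 60 := fix2 hρ 60 h0 h58 (by decide +kernel)
  have h75 : ρ 75 = 75 := fix2 hρ 75 h9 h78 (by decide +kernel)
  have h102 : ρ 102 = 102 := fix2 hρ 102 h78 h58 (by decide +kernel)
  have h30 : ρ 30 = 30 := fix2 hρ 30 h12 h102 (by decide +kernel)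
  have h14 : ρ 14 = 14 := fix2 hρ 14 h12 h30 (by decide +kernel)
  have h103 : ρ 103 = 103 := fix2 hρ 103 h14 h48 (by decide +kernel)
  have h127 : ρ 127 = 127 := fix2 hρ 127 h9 h103 (by decide +kernel)
  have h128 : ρ 128 = 128 := fix2 hρ 128 h0 h78 (by decide +kernel)
  have h132 : ρ 132 = 132 := fix2 hρ 132 h30 h60 (by decide +kernel)
  have h134 : ρ 134 = 134 := fix2 hρ 134 h47 h78 (by decide +kernel)
  have h148 : ρ 148 = 148 := fix2 hρ 148 h30 h48 (by decide +kernel)
  have h152 : ρ 152 = 152 := fix2 hρ 152 h58 h14 (by decide +kernel)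
  have h156 : ρ 156 = 156 := fix2 hρ 156 h14 h60 (by decide +kernel)
  have h162 : ρ 162 = 162 := fix2 hρ 162 h47 h30 (by decide +kernel)
  have h1 : ρ 1 = 1 := fix3 hρ 1 h102 h60 h75 (by decide +kernel)
  have h29 : ρ 29 = 29 := fix2 hρ 29 h162 h1 (by decide +kernel)
  have h22 : ρ 22 = 22 := fix2 hρ 22 h47 h29 (by decide +kernel)
  have h23 : ρ 23 = 23 := fix2 hρ 23 h60 h22 (by decide +kernel)
  have h7 : ρ 7 = 7 := fix2 hρ 7 h134 h23 (by decide +kernel)
  have h21 : ρ 21 = 21 := fix2 hρ 21 h75 h7 (by decide +kernel)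
  have h16 : ρ 16 = 16 := fix2 hρ 16 h128 h21 (by decide +kernel)
  have h5 : ρ 5 = 5 := fix2 hρ 5 h152 h16 (by decide +kernel)
  have h13 : ρ 13 = 13 := fix2 hρ 13 h134 h5 (by decide +kernel)
  have h15 : ρ 15 = 15 := fix2 hρ 15 h58 h16 (by decide +kernel)
  have h19 : ρ 19 = 19 := fix2 hρ 19 h162 h21 (by decide +kernel)
  have h4 : ρ 4 = 4 := fix2 hρ 4 h103 h19 (by decide +kernel)
  have h17 : ρ 17 = 17 := fix2 hρ 17 h132 h4 (by decide +kernel)
  have h18 : ρ 18 = 18 := fix2 hρ 18 h127 h4 (by decide +kernel)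
  have h20 : ρ 20 = 20 := fix2 hρ 20 h48 h19 (by decide +kernel)
  have h24 : ρ 24 = 24 := fix2 hρ 24 h148 h7 (by decide +kernel)
  have h10 : ρ 10 = 10 := fix2 hρ 10 h48 h24 (by decide +kernel)
  have h11 : ρ 11 = 11 := fix2 hρ 11 h60 h10 (by decide +kernel)
  have h26 : ρ 26 = 26 := fix2 hρ 26 h75 h18 (by decide +kernel)
  have h2 : ρ 2 = 2 := fix2 hρ 2 h148 h26 (by decide +kernel)
  have h25 : ρ 25 = 25 := fix2 hρ 25 h156 h26 (by decide +kernel)
  have h27 : ρ 27 = 27 := fix2 hρ 27 h134 h2 (by decide +kernel)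
  have h28 : ρ 28 = 28 := fix2 hρ 28 h48 h15 (by decide +kernel)
  have h31 : ρ 31 = 31 := fix2 hρ 31 h78 h1 (by decide +kernel)
  have h32 : ρ 32 = 32 := fix2 hρ 32 h58 h1 (by decide +kernel)
  have h33 : ρ 33 = 33 := fix2 hρ 33 h152 h20 (by decide +kernel)
  have h8 : ρ 8 = 8 := fix2 hρ 8 h127 h33 (by decide +kernel)
  have h34 : ρ 34 = 34 := fix2 hρ 34 h102 h23 (by decide +kernel)
  have h35 : ρ 35 = 35 := fix2 hρ 35 h78 h13 (by decide +kernel)
  have h36 : ρ 36 = 36 := fix2 hρ 36 h132 h11 (by decide +kernel)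
  have h37 : ρ 37 = 37 := fix2 hρ 37 h127 h27 (by decide +kernel)
  have h3 : ρ 3 = 3 := fix2 hρ 3 h162 h37 (by decide +kernel)
  have h38 : ρ 38 = 38 := fix2 hρ 38 h103 h24 (by decide +kernel)
  have h39 : ρ 39 = 39 := fix2 hρ 39 h60 h3 (by decide +kernel)
  have h40 : ρ 40 = 40 := fix2 hρ 40 h47 h13 (by decide +kernel)
  have h41 : ρ 41 = 41 := fix2 hρ 41 h102 h28 (by decide +kernel)
  have h6 : ρ 6 = 6 := fix2 hρ 6 h75 h41 (by decide +kernel)
  have h42 : ρ 42 = 42 := fix2 hρ 42 h128 h29 (by decide +kernel)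
  have h43 : ρ 43 = 43 := fix2 hρ 43 h152 h17 (by decide +kernel)
  have h44 : ρ 44 = 44 := fix2 hρ 44 h156 h11 (by decide +kernel)
  have h45 : ρ 45 = 45 := fix2 hρ 45 h60 h1 (by decide +kernel)
  have h46 : ρ 46 = 46 := fix2 hρ 46 h12 h8 (by decide +kernel)
  have h49 : ρ 49 = 49 := fix2 hρ 49 h30 h2 (by decide +kernel)
  have h50 : ρ 50 = 50 := fix2 hρ 50 h47 h5 (by decide +kernel)
  have h51 : ρ 51 = 51 := fix2 hρ 51 h48 h5 (by decide +kernel)
  have h52 : ρ 52 = 52 := fix2 hρ 52 h47 h1 (by decide +kernel)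
  have h53 : ρ 53 = 53 := fix2 hρ 53 h14 h23 (by decide +kernel)
  have h54 : ρ 54 = 54 := fix2 hρ 54 h156 h19 (by decide +kernel)
  have h55 : ρ 55 = 55 := fix2 hρ 55 h48 h1 (by decide +kernel)
  have h56 : ρ 56 = 56 := fix2 hρ 56 h132 h7 (by decide +kernel)
  have h57 : ρ 57 = 57 := fix2 hρ 57 h48 h29 (by decide +kernel)
  have h59 : ρ 59 = 59 := fix2 hρ 59 h12 h21 (by decide +kernel)
  have h61 : ρ 61 = 61 := fix2 hρ 61 h14 h20 (by decide +kernel)
  have h62 : ρ 62 = 62 := fix2 hρ 62 h58 h5 (by decide +kernel)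
  have h63 : ρ 63 = 63 := fix2 hρ 63 h148 h17 (by decide +kernel)
  have h64 : ρ 64 = 64 := fix2 hρ 64 h58 h1 (by decide +kernel)
  have h65 : ρ 65 = 65 := fix2 hρ 65 h30 h4 (by decide +kernel)
  have h66 : ρ 66 = 66 := fix2 hρ 66 h60 h29 (by decide +kernel)
  have h67 : ρ 67 = 67 := fix2 hρ 67 h103 h25 (by decide +kernel)
  have h68 : ρ 68 = 68 := fix2 hρ 68 h60 h7 (by decide +kernel)
  have h69 : ρ 69 = 69 := fix2 hρ 69 h127 h29 (by decide +kernel)
  have h70 : ρ 70 = 70 := fix2 hρ 70 h75 h16 (by decide +kernel)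
  have h71 : ρ 71 = 71 := fix2 hρ 71 h14 h27 (by decide +kernel)
  have h72 : ρ 72 = 72 := fix2 hρ 72 h78 h5 (by decide +kernel)
  have h73 : ρ 73 = 73 := fix2 hρ 73 h12 h20 (by decide +kernel)
  have h74 : ρ 74 = 74 := fix2 hρ 74 h75 h29 (by decide +kernel)
  have h76 : ρ 76 = 76 := fix2 hρ 76 h132 h7 (by decide +kernel)
  have h77 : ρ 77 = 77 := fix2 hρ 77 h30 h24 (by decide +kernel)
  have h79 : ρ 79 = 79 := fix2 hρ 79 h78 h1 (by decide +kernel)
  have h80 : ρ 80 = 80 := fix2 hρ 80 h103 h23 (by decide +kernel)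
  have h81 : ρ 81 = 81 := fix2 hρ 81 h30 h19 (by decide +kernel)
  have h82 : ρ 82 = 82 := fix2 hρ 82 h48 h22 (by decide +kernel)
  have h83 : ρ 83 = 83 := fix2 hρ 83 h134 h4 (by decide +kernel)
  have h84 : ρ 84 = 84 := fix2 hρ 84 h102 h4 (by decide +kernel)
  have h85 : ρ 85 = 85 := fix2 hρ 85 h9 h31 (by decide +kernel)
  have h86 : ρ 86 = 86 := fix2 hρ 86 h127 h29 (by decide +kernel)
  have h87 : ρ 87 = 87 := fix2 hρ 87 h75 h1 (by decide +kernel)
  have h88 : ρ 88 = 88 := fix2 hρ 88 h162 h26 (by decide +kernel)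
  have h89 : ρ 89 = 89 := fix2 hρ 89 h60 h23 (by decide +kernel)
  have h90 : ρ 90 = 90 := fix2 hρ 90 h14 h7 (by decide +kernel)
  have h91 : ρ 91 = 91 := fix2 hρ 91 h0 h15 (by decide +kernel)
  have h92 : ρ 92 = 92 := fix2 hρ 92 h152 h24 (by decide +kernel)
  have h93 : ρ 93 = 93 := fix2 hρ 93 h102 h23 (by decide +kernel)
  have h94 : ρ 94 = 94 := fix2 hρ 94 h12 h7 (by decide +kernel)
  have h95 : ρ 95 = 95 := fix2 hρ 95 h47 h22 (by decide +kernel)
  have h96 : ρ 96 = 96 := fix2 hρ 96 h103 h7 (by decide +kernel)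
  have h97 : ρ 97 = 97 := fix2 hρ 97 h103 h5 (by decide +kernel)
  have h98 : ρ 98 = 98 := fix2 hρ 98 h9 h16 (by decide +kernel)
  have h99 : ρ 99 = 99 := fix2 hρ 99 h0 h19 (by decide +kernel)
  have h100 : ρ 100 = 100 := fix2 hρ 100 h102 h20 (by decide +kernel)
  have h101 : ρ 101 = 101 := fix2 hρ 101 h162 h29 (by decide +kernel)
  have h104 : ρ 104 = 104 := fix2 hρ 104 h128 h27 (by decide +kernel)
  have h105 : ρ 105 = 105 := fix2 hρ 105 h14 h17 (by decide +kernel)
  have h106 : ρ 106 = 106 := fix2 hρ 106 h152 h24 (by decide +kernel)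
  have h107 : ρ 107 = 107 := fix2 hρ 107 h48 h29 (by decide +kernel)
  have h108 : ρ 108 = 108 := fix2 hρ 108 h162 h19 (by decide +kernel)
  have h109 : ρ 109 = 109 := fix2 hρ 109 h9 h21 (by decide +kernel)
  have h110 : ρ 110 = 110 := fix2 hρ 110 h60 h1 (by decide +kernel)
  have h111 : ρ 111 = 111 := fix2 hρ 111 h134 h7 (by decide +kernel)
  have h112 : ρ 112 = 112 := fix2 hρ 112 h0 h22 (by decide +kernel)
  have h113 : ρ 113 = 113 := fix2 hρ 113 h75 h13 (by decide +kernel)
  have h114 : ρ 114 = 114 := fix2 hρ 114 h102 h4 (by decide +kernel)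
  have h115 : ρ 115 = 115 := fix2 hρ 115 h127 h22 (by decide +kernel)
  have h116 : ρ 116 = 116 := fix2 hρ 116 h30 h3 (by decide +kernel)
  have h117 : ρ 117 = 117 := fix2 hρ 117 h75 h1 (by decide +kernel)
  have h118 : ρ 118 = 118 := fix2 hρ 118 h30 h21 (by decide +kernel)
  have h119 : ρ 119 = 119 := fix2 hρ 119 h127 h1 (by decide +kernel)
  have h120 : ρ 120 = 120 := fix2 hρ 120 h128 h1 (by decide +kernel)
  have h121 : ρ 121 = 121 := fix2 hρ 121 h12 h23 (by decide +kernel)
  have h122 : ρ 122 = 122 := fix2 hρ 122 h14 h24 (by decide +kernel)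
  have h123 : ρ 123 = 123 := fix2 hρ 123 h156 h19 (by decide +kernel)
  have h124 : ρ 124 = 124 := fix2 hρ 124 h128 h22 (by decide +kernel)
  have h125 : ρ 125 = 125 := fix2 hρ 125 h127 h13 (by decide +kernel)
  have h126 : ρ 126 = 126 := fix2 hρ 126 h148 h2 (by decide +kernel)
  have h129 : ρ 129 = 129 := fix2 hρ 129 h134 h24 (by decide +kernel)
  have h130 : ρ 130 = 130 := fix2 hρ 130 h9 h22 (by decide +kernel)
  have h131 : ρ 131 = 131 := fix2 hρ 131 h128 h16 (by decide +kernel)
  have h133 : ρ 133 = 133 := fix2 hρ 133 h132 h29 (by decide +kernel)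
  have h135 : ρ 135 = 135 := fix2 hρ 135 h12 h19 (by decide +kernel)
  have h136 : ρ 136 = 136 := fix2 hρ 136 h58 h22 (by decide +kernel)
  have h137 : ρ 137 = 137 := fix2 hρ 137 h152 h5 (by decide +kernel)
  have h138 : ρ 138 = 138 := fix2 hρ 138 h0 h31 (by decide +kernel)
  have h139 : ρ 139 = 139 := fix2 hρ 139 h134 h21 (by decide +kernel)
  have h140 : ρ 140 = 140 := fix2 hρ 140 h132 h1 (by decide +kernel)
  have h141 : ρ 141 = 141 := fix2 hρ 141 h152 h21 (by decide +kernel)
  have h142 : ρ 142 = 142 := fix2 hρ 142 h12 h23 (by decide +kernel)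
  have h143 : ρ 143 = 143 := fix2 hρ 143 h148 h29 (by decide +kernel)
  have h144 : ρ 144 = 144 := fix2 hρ 144 h47 h20 (by decide +kernel)
  have h145 : ρ 145 = 145 := fix2 hρ 145 h148 h1 (by decide +kernel)
  have h146 : ρ 146 = 146 := fix2 hρ 146 h134 h13 (by decide +kernel)
  have h147 : ρ 147 = 147 := fix2 hρ 147 h152 h15 (by decide +kernel)
  have h149 : ρ 149 = 149 := fix2 hρ 149 h0 h22 (by decide +kernel)
  have h150 : ρ 150 = 150 := fix2 hρ 150 h9 h7 (by decide +kernel)
  have h151 : ρ 151 = 151 := fix2 hρ 151 h78 h21 (by decide +kernel)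
  have h153 : ρ 153 = 153 := fix2 hρ 153 h162 h20 (by decide +kernel)
  have h154 : ρ 154 = 154 := fix2 hρ 154 h78 h21 (by decide +kernel)
  have h155 : ρ 155 = 155 := fix2 hρ 155 h9 h35 (by decide +kernel)
  have h157 : ρ 157 = 157 := fix2 hρ 157 h156 h13 (by decide +kernel)
  have h158 : ρ 158 = 158 := fix2 hρ 158 h0 h23 (by decide +kernel)
  have h159 : ρ 159 = 159 := fix2 hρ 159 h102 h1 (by decide +kernel)
  have h160 : ρ 160 = 160 := fix2 hρ 160 h162 h22 (by decide +kernel)
  have h161 : ρ 161 = 161 := fix2 hρ 161 h12 h27 (by decide +kernel)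
  have h163 : ρ 163 = 163 := fix2 hρ 163 h156 h16 (by decide +kernel)
  have h164 : ρ 164 = 164 := fix2 hρ 164 h58 h23 (by decide +kernel)
  have hall : ∀ i : Fin 165, ρ i = i := by
    intro i
    fin_cases i
    · exact h0
    · exact h1
    · exact h2
    · exact h3
    · exact h4
    · exact h5
    · exact h6
    · exact h7
    · exact h8
    · exact h9
    · exact h10
    · exact h11
    · exact h12
    · exact h13
    · exact h14
    · exact h15
    · exact h16
    · exact h17
    · exact h18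
    · exact h19
    · exact h20
    · exact h21
    · exact h22
    · exact h23
    · exact h24
    · exact h25
    · exact h26
    · exact h27
    · exact h28
    · exact h29
    · exact h30
    · exact h31
    · exact h32
    · exact h33
    · exact h34
    · exact h35
    · exact h36
    · exact h37
    · exact h38
    · exact h39
    · exact h40
    · exact h41
    · exact h42
    · exact h43
    · exact h44
    · exact h45
    · exact h46
    · exact h47
    · exact h48
    · exact h49
    · exact h50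
    · exact h51
    · exact h52
    · exact h53
    · exact h54
    · exact h55
    · exact h56
    · exact h57
    · exact h58
    · exact h59
    · exact h60
    · exact h61
    · exact h62
    · exact h63
    · exact h64
    · exact h65
    · exact h66
    · exact h67
    · exact h68
    · exact h69
    · exact h70
    · exact h71
    · exact h72
    · exact h73
    · exact h74
    · exact h75
    · exact h76
    · exact h77
    · exact h78
    · exact h79
    · exact h80
    · exact h81
    · exact h82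
    · exact h83
    · exact h84
    · exact h85
    · exact h86
    · exact h87
    · exact h88
    · exact h89
    · exact h90
    · exact h91
    · exact h92
    · exact h93
    · exact h94
    · exact h95
    · exact h96
    · exact h97
    · exact h98
    · exact h99
    · exact h100
    · exact h101
    · exact h102
    · exact h103
    · exact h104
    · exact h105
    · exact h106
    · exact h107
    · exact h108
    · exact h109
    · exact h110
    · exact h111
    · exact h112
    · exact h113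
    · exact h114
    · exact h115
    · exact h116
    · exact h117
    · exact h118
    · exact h119
    · exact h120
    · exact h121
    · exact h122
    · exact h123
    · exact h124
    · exact h125
    · exact h126
    · exact h127
    · exact h128
    · exact h129
    · exact h130
    · exact h131
    · exact h132
    · exact h133
    · exact h134
    · exact h135
    · exact h136
    · exact h137
    · exact h138
    · exact h139
    · exact h140
    · exact h141
    · exact h142
    · exact h143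
    · exact h144
    · exact h145
    · exact h146
    · exact h147
    · exact h148
    · exact h149
    · exact h150
    · exact h151
    · exact h152
    · exact h153
    · exact h154
    · exact h155
    · exact h156
    · exact h157
    · exact h158
    · exact h159
    · exact h160
    · exact h161
    · exact h162
    · exact h163
    · exact h164
  exact Equiv.ext fun a => hall a

open Cfsg.Agent.Lib.Helper28.CG.Helper4 in
/-- the involution graph of `M11` has at most 7920 automorphisms -/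
theorem card_InvAut_le : Nat.card InvAut ≤ 7920 := by
  have mst : ∀ (σ : Equiv.Perm (Fin 165)) (x : Fin 165),
      σ ∈ MulAction.stabilizer (Equiv.Perm (Fin 165)) x ↔ σ x = x := by
    intro σ x
    rw [MulAction.mem_stabilizer_iff, Equiv.Perm.smul_def]
  set H1 : Subgroup (Equiv.Perm (Fin 165)) :=
    InvAut ⊓ MulAction.stabilizer (Equiv.Perm (Fin 165)) q1 with hH1
  set H2 : Subgroup (Equiv.Perm (Fin 165)) :=
    H1 ⊓ MulAction.stabilizer (Equiv.Perm (Fin 165)) q2 with hH2
  set H3 : Subgroup (Equiv.Perm (Fin 165)) :=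
    H2 ⊓ MulAction.stabilizer (Equiv.Perm (Fin 165)) q3 with hH3
  set H4 : Subgroup (Equiv.Perm (Fin 165)) :=
    H3 ⊓ MulAction.stabilizer (Equiv.Perm (Fin 165)) q4 with hH4
  have m1 : ∀ σ ∈ H1, σ ∈ InvAut ∧ σ q1 = q1 := by
    intro σ hσ
    rw [hH1, Subgroup.mem_inf, mst] at hσ
    exact hσ
  have m2 : ∀ σ ∈ H2, σ ∈ InvAut ∧ σ q1 = q1 ∧ σ q2 = q2 := by
    intro σ hσ
    rw [hH2, Subgroup.mem_inf, mst] at hσ
    exact ⟨(m1 σ hσ.1).1, (m1 σ hσ.1).2, hσ.2⟩
  have m3 : ∀ σ ∈ H3, σ ∈ InvAut ∧ σ q1 = q1 ∧ σ q2 = q2 ∧ σ q3 = q3 := by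
    intro σ hσ
    rw [hH3, Subgroup.mem_inf, mst] at hσ
    exact ⟨(m2 σ hσ.1).1, (m2 σ hσ.1).2.1, (m2 σ hσ.1).2.2, hσ.2⟩
  have m4 : ∀ σ ∈ H4, σ ∈ InvAut ∧ σ q1 = q1 ∧ σ q2 = q2 ∧ σ q3 = q3 ∧ σ q4 = q4 := by
    intro σ hσ
    rw [hH4, Subgroup.mem_inf, mst] at hσ
    exact ⟨(m3 σ hσ.1).1, (m3 σ hσ.1).2.1, (m3 σ hσ.1).2.2.1, (m3 σ hσ.1).2.2.2, hσ.2⟩
  have s0 : Nat.card InvAut ≤ 165 * Nat.card H1 := by
    have := card_le_mul_card_inf_stabilizer InvAut q1 Finset.univ (fun σ _ => Finset.mem_univ _)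
    rwa [Finset.card_univ, Fintype.card_fin] at this
  have s1 : Nat.card H1 ≤ 12 * Nat.card H2 := by
    have := card_le_mul_card_inf_stabilizer H1 q2 S2 (by
      intro σ hσ
      obtain ⟨hL, h1⟩ := m1 σ hσ
      rw [S2, Finset.mem_filter]
      refine ⟨Finset.mem_univ _, ?_⟩
      have := relB_map hL q2 q1
      rw [h1] at this
      rw [this]
      decide +kernel)
    rwa [card_S2] at this
  have s2 : Nat.card H2 ≤ 2 * Nat.card H3 := by
    have := card_le_mul_card_inf_stabilizer H2 q3 S3 (by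
      intro σ hσ
      obtain ⟨hL, h1, h2⟩ := m2 σ hσ
      rw [S3, Finset.mem_filter]
      refine ⟨Finset.mem_univ _, ?_, ?_⟩
      · have := relB_map hL q3 q1
        rw [h1] at this
        rw [this]
        decide +kernel
      · have := relB_map hL q3 q2
        rw [h2] at this
        rw [this]
        decide +kernel)
    rwa [card_S3] at this
  have s3 : Nat.card H3 ≤ 2 * Nat.card H4 := by
    have := card_le_mul_card_inf_stabilizer H3 q4 S4 (by
      intro σ hσ
      obtain ⟨hL, h1, h2, h3⟩ := m3 σ hσ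
      rw [S4, Finset.mem_filter]
      refine ⟨Finset.mem_univ _, ?_, ?_⟩
      · have := relB_map hL q4 q2
        rw [h2] at this
        rw [this]
        decide +kernel
      · have := relB_map hL q4 q1
        rw [h1] at this
        rw [this]
        decide +kernel)
    rwa [card_S4] at this
  have s4 : Nat.card H4 = 1 := by
    have hbot : H4 = ⊥ := by
      rw [eq_bot_iff]
      intro σ hσ
      obtain ⟨hL, h1, h2, h3, h4⟩ := m4 σ hσ
      rw [Subgroup.mem_bot]
      exact eq_one_of_fix hL h1 h2 h3 h4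
    rw [hbot]
    exact Subgroup.card_bot
  calc Nat.card InvAut ≤ 165 * Nat.card H1 := s0
    _ ≤ 165 * (12 * Nat.card H2) := Nat.mul_le_mul_left _ s1
    _ ≤ 165 * (12 * (2 * Nat.card H3)) := Nat.mul_le_mul_left _ (Nat.mul_le_mul_left _ s2)
    _ ≤ 165 * (12 * (2 * (2 * Nat.card H4))) :=
        Nat.mul_le_mul_left _ (Nat.mul_le_mul_left _ (Nat.mul_le_mul_left _ s3))
    _ = 7920 := by rw [s4]

end Cfsg.Agent.Lib.Helper28.M11CG
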