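import Mathlib
import Cfsg.Agent.Lib.Helper28.CG.Defs

/-!
# S3413 farm (helper28): shared definitions

`TT16 X`: the vertices of the commuting graph of `X` whose centralizer has order divisible by 16
(for `M11`: exactly the 165 involutions).
-/

set_option autoImplicit false

namespace Cfsg.Agent.Lib.Helper28.M11CG

open Cfsg.Agent.Lib.Helper28.CG

/-- vertices whose centralizer has order divisible by 16 -/
def TT16 (X : Type*) [Group X] : Set (V X) := {x | 16 ∣ cdeg x}

theorem mem_TT16 {X : Type*} [Group X] (x : V X) : x ∈ TT16 X ↔ 16 ∣ cdeg x := Iff.rfl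

end Cfsg.Agent.Lib.Helper28.M11CG
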