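import Mathlib
import Cfsg.Agent.Lib.Helper28.M11CG.Defs
import Cfsg.Agent.Lib.Helper28.CG.Generic
import Cfsg.Agent.Lib.Helper28.L33M11

set_option autoImplicit false

namespace Cfsg.Agent.Lib.Helper28.M11CG

open Cfsg

/-- [B2] (architect's spare) `M11` has exactly 165 involutions -/
theorem Arch.card_involutions_M11_spare :
    Nat.card {x : ↥Cfsg.Spor.M11 // x ≠ 1 ∧ x * x = 1} = 165 := by
  classical
  have : Fact (Nat.Prime 2) := ⟨Nat.prime_two⟩
  have hcard : Nat.card ↥Cfsg.Spor.M11 = 7920 := Cfsg.Agent.Lib.Helper28.card_sporM11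
  have hfin : Finite ↥Cfsg.Spor.M11 := Nat.finite_of_card_ne_zero (by rw [hcard]; norm_num)
  obtain ⟨b, hb⟩ := exists_prime_orderOf_dvd_card' (G := ↥Cfsg.Spor.M11) 2
    (by rw [hcard]; norm_num)
  obtain ⟨φ⟩ := Cfsg.Agent.Lib.Helper28.cent_involution_sporM11 b hb
  have hC : Nat.card (Subgroup.centralizer ({b} : Set ↥Cfsg.Spor.M11)) = 48 := by
    rw [Nat.card_congr φ.toEquiv, Cfsg.Agent.Lib.Helper28.card_GL23]
  have : Fintype ↥Cfsg.Spor.M11 := Fintype.ofFinite _
  have : Fintype (ConjAct ↥Cfsg.Spor.M11) := Fintype.ofFinite _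
  have horb := MulAction.card_orbit_mul_card_stabilizer_eq_card_group (ConjAct ↥Cfsg.Spor.M11) b
  rw [← Nat.card_eq_fintype_card, ← Nat.card_eq_fintype_card, ← Nat.card_eq_fintype_card,
    Cfsg.Agent.Lib.Helper28.CG.Gen.card_stabilizer_eq, hC] at horb
  have hcard' : Nat.card (ConjAct ↥Cfsg.Spor.M11) = 7920 := hcard
  rw [hcard'] at horb
  have horb' : Nat.card (MulAction.orbit (ConjAct ↥Cfsg.Spor.M11) b) = 165 := by omega
  have hset : {x : ↥Cfsg.Spor.M11 | x ≠ 1 ∧ x * x = 1} =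
      MulAction.orbit (ConjAct ↥Cfsg.Spor.M11) b := by
    ext x
    rw [ConjAct.mem_orbit_conjAct]
    constructor
    · rintro ⟨hx1, hx2⟩
      have ho : orderOf x = 2 := orderOf_eq_prime (by rw [pow_two]; exact hx2) hx1
      exact Cfsg.Agent.Lib.Helper28.isConj_involutions_M11 x b ho hb
    · intro hx
      rw [isConj_iff] at hx
      obtain ⟨c, hc⟩ := hx
      have hb2 : b * b = 1 := by
        have := pow_orderOf_eq_one b
        rwa [hb, pow_two] at this
      have hb1 : b ≠ 1 := by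
        intro h
        rw [h, orderOf_one] at hb
        norm_num at hb
      have hx' : x = c⁻¹ * b * c := by rw [← hc]; group
      refine ⟨?_, ?_⟩
      · intro h1
        apply hb1
        rw [← hc, h1]; group
      · rw [hx']
        calc c⁻¹ * b * c * (c⁻¹ * b * c) = c⁻¹ * (b * b) * c := by group
          _ = 1 := by rw [hb2]; group
  have : Nat.card {x : ↥Cfsg.Spor.M11 // x ≠ 1 ∧ x * x = 1} =
      Nat.card ↥({x : ↥Cfsg.Spor.M11 | x ≠ 1 ∧ x * x = 1}) := rfl
  rw [this, hset, horb']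

end Cfsg.Agent.Lib.Helper28.M11CG
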