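import Cfsg.Agent.Lib.Helper28.M11CG.Invs

/-!
# S3413 (helper28): the 165 involutions as elements of `Spor.M11`
-/

set_option autoImplicit false

namespace Cfsg.Agent.Lib.Helper28.M11CG

open Cfsg MulAction
open scoped Pointwise

set_option maxRecDepth 100000 in
set_option maxHeartbeats 4000000 in
theorem tabI_check_0 : ∀ i : Fin 165, i.val / 5 = 0 → TabCheck (tabI i) := by decide +kernel

set_option maxRecDepth 100000 in
set_option maxHeartbeats 4000000 in
theorem tabI_check_1 : ∀ i : Fin 165, i.val / 5 = 1 → TabCheck (tabI i) := by decide +kernel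

set_option maxRecDepth 100000 in
set_option maxHeartbeats 4000000 in
theorem tabI_check_2 : ∀ i : Fin 165, i.val / 5 = 2 → TabCheck (tabI i) := by decide +kernel

set_option maxRecDepth 100000 in
set_option maxHeartbeats 4000000 in
theorem tabI_check_3 : ∀ i : Fin 165, i.val / 5 = 3 → TabCheck (tabI i) := by decide +kernel

set_option maxRecDepth 100000 in
set_option maxHeartbeats 4000000 in
theorem tabI_check_4 : ∀ i : Fin 165, i.val / 5 = 4 → TabCheck (tabI i) := by decide +kernel

set_option maxRecDepth 100000 in
set_option maxHeartbeats 4000000 in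
theorem tabI_check_5 : ∀ i : Fin 165, i.val / 5 = 5 → TabCheck (tabI i) := by decide +kernel

set_option maxRecDepth 100000 in
set_option maxHeartbeats 4000000 in
theorem tabI_check_6 : ∀ i : Fin 165, i.val / 5 = 6 → TabCheck (tabI i) := by decide +kernel

set_option maxRecDepth 100000 in
set_option maxHeartbeats 4000000 in
theorem tabI_check_7 : ∀ i : Fin 165, i.val / 5 = 7 → TabCheck (tabI i) := by decide +kernel

set_option maxRecDepth 100000 in
set_option maxHeartbeats 4000000 in
theorem tabI_check_8 : ∀ i : Fin 165, i.val / 5 = 8 → TabCheck (tabI i) := by decide +kernel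

set_option maxRecDepth 100000 in
set_option maxHeartbeats 4000000 in
theorem tabI_check_9 : ∀ i : Fin 165, i.val / 5 = 9 → TabCheck (tabI i) := by decide +kernel

set_option maxRecDepth 100000 in
set_option maxHeartbeats 4000000 in
theorem tabI_check_10 : ∀ i : Fin 165, i.val / 5 = 10 → TabCheck (tabI i) := by decide +kernel

set_option maxRecDepth 100000 in
set_option maxHeartbeats 4000000 in
theorem tabI_check_11 : ∀ i : Fin 165, i.val / 5 = 11 → TabCheck (tabI i) := by decide +kernel

set_option maxRecDepth 100000 in
set_option maxHeartbeats 4000000 in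
theorem tabI_check_12 : ∀ i : Fin 165, i.val / 5 = 12 → TabCheck (tabI i) := by decide +kernel

set_option maxRecDepth 100000 in
set_option maxHeartbeats 4000000 in
theorem tabI_check_13 : ∀ i : Fin 165, i.val / 5 = 13 → TabCheck (tabI i) := by decide +kernel

set_option maxRecDepth 100000 in
set_option maxHeartbeats 4000000 in
theorem tabI_check_14 : ∀ i : Fin 165, i.val / 5 = 14 → TabCheck (tabI i) := by decide +kernel

set_option maxRecDepth 100000 in
set_option maxHeartbeats 4000000 in
theorem tabI_check_15 : ∀ i : Fin 165, i.val / 5 = 15 → TabCheck (tabI i) := by decide +kernel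

set_option maxRecDepth 100000 in
set_option maxHeartbeats 4000000 in
theorem tabI_check_16 : ∀ i : Fin 165, i.val / 5 = 16 → TabCheck (tabI i) := by decide +kernel

set_option maxRecDepth 100000 in
set_option maxHeartbeats 4000000 in
theorem tabI_check_17 : ∀ i : Fin 165, i.val / 5 = 17 → TabCheck (tabI i) := by decide +kernel

set_option maxRecDepth 100000 in
set_option maxHeartbeats 4000000 in
theorem tabI_check_18 : ∀ i : Fin 165, i.val / 5 = 18 → TabCheck (tabI i) := by decide +kernel

set_option maxRecDepth 100000 in
set_option maxHeartbeats 4000000 in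
theorem tabI_check_19 : ∀ i : Fin 165, i.val / 5 = 19 → TabCheck (tabI i) := by decide +kernel

set_option maxRecDepth 100000 in
set_option maxHeartbeats 4000000 in
theorem tabI_check_20 : ∀ i : Fin 165, i.val / 5 = 20 → TabCheck (tabI i) := by decide +kernel

set_option maxRecDepth 100000 in
set_option maxHeartbeats 4000000 in
theorem tabI_check_21 : ∀ i : Fin 165, i.val / 5 = 21 → TabCheck (tabI i) := by decide +kernel

set_option maxRecDepth 100000 in
set_option maxHeartbeats 4000000 in
theorem tabI_check_22 : ∀ i : Fin 165, i.val / 5 = 22 → TabCheck (tabI i) := by decide +kernel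

set_option maxRecDepth 100000 in
set_option maxHeartbeats 4000000 in
theorem tabI_check_23 : ∀ i : Fin 165, i.val / 5 = 23 → TabCheck (tabI i) := by decide +kernel

set_option maxRecDepth 100000 in
set_option maxHeartbeats 4000000 in
theorem tabI_check_24 : ∀ i : Fin 165, i.val / 5 = 24 → TabCheck (tabI i) := by decide +kernel

set_option maxRecDepth 100000 in
set_option maxHeartbeats 4000000 in
theorem tabI_check_25 : ∀ i : Fin 165, i.val / 5 = 25 → TabCheck (tabI i) := by decide +kernel

set_option maxRecDepth 100000 in
set_option maxHeartbeats 4000000 in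
theorem tabI_check_26 : ∀ i : Fin 165, i.val / 5 = 26 → TabCheck (tabI i) := by decide +kernel

set_option maxRecDepth 100000 in
set_option maxHeartbeats 4000000 in
theorem tabI_check_27 : ∀ i : Fin 165, i.val / 5 = 27 → TabCheck (tabI i) := by decide +kernel

set_option maxRecDepth 100000 in
set_option maxHeartbeats 4000000 in
theorem tabI_check_28 : ∀ i : Fin 165, i.val / 5 = 28 → TabCheck (tabI i) := by decide +kernel

set_option maxRecDepth 100000 in
set_option maxHeartbeats 4000000 in
theorem tabI_check_29 : ∀ i : Fin 165, i.val / 5 = 29 → TabCheck (tabI i) := by decide +kernel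

set_option maxRecDepth 100000 in
set_option maxHeartbeats 4000000 in
theorem tabI_check_30 : ∀ i : Fin 165, i.val / 5 = 30 → TabCheck (tabI i) := by decide +kernel

set_option maxRecDepth 100000 in
set_option maxHeartbeats 4000000 in
theorem tabI_check_31 : ∀ i : Fin 165, i.val / 5 = 31 → TabCheck (tabI i) := by decide +kernel

set_option maxRecDepth 100000 in
set_option maxHeartbeats 4000000 in
theorem tabI_check_32 : ∀ i : Fin 165, i.val / 5 = 32 → TabCheck (tabI i) := by decide +kernel

theorem tabI_check (i : Fin 165) : TabCheck (tabI i) := by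
  have h : i.val / 5 < 33 := by omega
  interval_cases hk : i.val / 5
  · exact tabI_check_0 i hk
  · exact tabI_check_1 i hk
  · exact tabI_check_2 i hk
  · exact tabI_check_3 i hk
  · exact tabI_check_4 i hk
  · exact tabI_check_5 i hk
  · exact tabI_check_6 i hk
  · exact tabI_check_7 i hk
  · exact tabI_check_8 i hk
  · exact tabI_check_9 i hk
  · exact tabI_check_10 i hk
  · exact tabI_check_11 i hk
  · exact tabI_check_12 i hk
  · exact tabI_check_13 i hk
  · exact tabI_check_14 i hk
  · exact tabI_check_15 i hk
  · exact tabI_check_16 i hk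
  · exact tabI_check_17 i hk
  · exact tabI_check_18 i hk
  · exact tabI_check_19 i hk
  · exact tabI_check_20 i hk
  · exact tabI_check_21 i hk
  · exact tabI_check_22 i hk
  · exact tabI_check_23 i hk
  · exact tabI_check_24 i hk
  · exact tabI_check_25 i hk
  · exact tabI_check_26 i hk
  · exact tabI_check_27 i hk
  · exact tabI_check_28 i hk
  · exact tabI_check_29 i hk
  · exact tabI_check_30 i hk
  · exact tabI_check_31 i hk
  · exact tabI_check_32 i hk

/-- the involution number `i`, as a permutation of the 24 points -/
noncomputable def invP (i : Fin 165) : Equiv.Perm GolayPt := tabPerm (tabI i) (tabI_inj i)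

theorem invP_acts (i : Fin 165) : TActs (invP i) (tabI i) := tabPerm_pt _ _

theorem invP_mem (i : Fin 165) : invP i ∈ Spor.M11 := by
  rw [mem_sporM11]
  refine ⟨tabPerm_mem_M24 _ _ (tabI_check i),
    smul_sq_of_tab (tabPerm_pt _ _) (tabI_sq i), ?_⟩
  rw [some_zero_eq_pt]
  show tabPerm (tabI i) (tabI_inj i) (Helper4.pt 0) = Helper4.pt 0
  rw [tabPerm_pt, tabI_fix]

/-- the involution number `i` of `M11` -/
noncomputable def invo (i : Fin 165) : ↥Spor.M11 := ⟨invP i, invP_mem i⟩

theorem invo_mul_self (i : Fin 165) : invo i * invo i = 1 := by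
  apply Subtype.ext
  show invP i * invP i = 1
  exact TActs.ext ((invP_acts i).mul (invP_acts i)) TActs.one (fun a => tabI_invol i a)

theorem invo_ne_one (i : Fin 165) : invo i ≠ 1 := by
  intro h
  obtain ⟨a, ha⟩ := tabI_ne i
  have h1 : invP i = 1 := congrArg Subtype.val h
  have h2 := invP_acts i a
  rw [h1] at h2
  exact ha (Helper4.pt_bijective.1 h2).symm

theorem invo_comm_iff (i j : Fin 165) :
    invo i * invo j = invo j * invo i ↔ (InvAdj i j ∨ i = j) := by
  have e : invo i * invo j = invo j * invo i ↔ invP i * invP j = invP j * invP i :=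
    Subtype.ext_iff
  rw [e]
  unfold InvAdj
  rw [tabI_comm]
  constructor
  · intro h a
    have h1 := (invP_acts i).mul (invP_acts j) a
    have h2 := (invP_acts j).mul (invP_acts i) a
    rw [h] at h1
    exact Helper4.pt_bijective.1 (h1.symm.trans h2)
  · intro h
    exact TActs.ext ((invP_acts i).mul (invP_acts j)) ((invP_acts j).mul (invP_acts i)) h

set_option maxRecDepth 100000 in
theorem tabI_injective : ∀ i j : Fin 165, (∀ a : Fin 24, tabI i a = tabI j a) → i = j := by
  decide +kernel

theorem invo_injective : Function.Injective invo := by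
  intro i j h
  apply tabI_injective
  intro a
  have hP : invP i = invP j := congrArg Subtype.val h
  have h2 := invP_acts i a
  rw [hP, invP_acts j a] at h2
  exact (Helper4.pt_bijective.1 h2).symm

/-- only the identity commutes with all involutions of `M11` -/
theorem eq_one_of_comm_invo (g : ↥Spor.M11) (h : ∀ i, g * invo i = invo i * g) : g = 1 := by
  have hg0 : g.1 (Helper4.pt 0) = Helper4.pt 0 := by
    have := (mem_sporM11.mp g.2).2.2
    rwa [some_zero_eq_pt] at this
  have key : ∀ a : Fin 24, g.1 (Helper4.pt a) = Helper4.pt a := by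
    intro a
    obtain ⟨b, hb⟩ := Helper4.pt_bijective.2 (g.1 (Helper4.pt a))
    have hsep := tabI_sep a b (by
      intro i hi
      have h1 : g.1 * invP i = invP i * g.1 := congrArg Subtype.val (h i)
      have h2 : (g.1 * invP i) (Helper4.pt a) = (invP i * g.1) (Helper4.pt a) := by rw [h1]
      rw [Equiv.Perm.mul_apply, Equiv.Perm.mul_apply, invP_acts i a, hi, ← hb,
        invP_acts i b] at h2
      exact (Helper4.pt_bijective.1 h2).symm)
    rcases hsep with e | e
    · rw [← hb, e]
    · rw [e] at hb
      have : g.1 (Helper4.pt a) = g.1 (Helper4.pt 0) := by rw [← hb, hg0]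
      have := g.1.injective this
      rw [this, hg0]
  apply Subtype.ext
  apply Equiv.ext
  intro x
  obtain ⟨a, rfl⟩ := Helper4.pt_bijective.2 x
  exact key a

end Cfsg.Agent.Lib.Helper28.M11CG
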