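import Mathlib
import Cfsg.Agent.Lib.Helper28.L33M11
import Cfsg.Agent.Lib.Helper22.M11CGGL

/-!
# S3413 (helper28): leaf [T1b] (architect's spare): in `M11`, a centralizer of order divisible by
16 belongs to an element squaring to one
-/

set_option autoImplicit false

namespace Cfsg.Agent.Lib.Helper28.M11CG

open Cfsg

/-- [T1b] (architect's spare) -/
theorem Arch.sq_eq_one_of_sixteen_dvd_spare (x : ↥Cfsg.Spor.M11)
    (hx : 16 ∣ Nat.card (Subgroup.centralizer ({x} : Set ↥Cfsg.Spor.M11))) : x * x = 1 := by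
  classical
  have : Fact (Nat.Prime 2) := ⟨Nat.prime_two⟩
  have hcard : Nat.card ↥Cfsg.Spor.M11 = 7920 := Cfsg.Agent.Lib.Helper28.card_sporM11
  have hfin : Finite ↥Cfsg.Spor.M11 := Nat.finite_of_card_ne_zero (by rw [hcard]; norm_num)
  have hx' : 2 ^ 4 ∣ Nat.card (Subgroup.centralizer ({x} : Set ↥Cfsg.Spor.M11)) := hx
  obtain ⟨K, hK⟩ := Sylow.exists_subgroup_card_pow_prime 2 hx'
  obtain ⟨S, hS⟩ : ∃ S : Subgroup ↥Cfsg.Spor.M11,
      S = K.map (Subgroup.centralizer ({x} : Set ↥Cfsg.Spor.M11)).subtype := ⟨_, rfl⟩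
  have hScard : Nat.card S = 2 ^ 4 := by rw [hS, Subgroup.card_subtype, hK]
  have hSle : S ≤ Subgroup.centralizer ({x} : Set ↥Cfsg.Spor.M11) := by
    rw [hS]; exact Subgroup.map_subtype_le K
  have hSp : IsPGroup 2 S := IsPGroup.of_card hScard
  have hSnt : Nontrivial S := by
    rw [← Finite.one_lt_card_iff_nontrivial, hScard]; norm_num
  have hZnt : Nontrivial (Subgroup.center S) := hSp.center_nontrivial
  have hZp : IsPGroup 2 (Subgroup.center S) := hSp.to_subgroup _
  obtain ⟨k, hk⟩ := hZp.exists_card_eq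
  have hk0 : k ≠ 0 := by
    rintro rfl
    rw [pow_zero] at hk
    have := Finite.one_lt_card_iff_nontrivial.2 hZnt
    omega
  have h2 : 2 ∣ Nat.card (Subgroup.center S) := by
    rw [hk]; exact dvd_pow_self 2 hk0
  obtain ⟨z, hz⟩ := exists_prime_orderOf_dvd_card' (G := Subgroup.center S) 2 h2
  -- the involution `z'` of `M11`
  set z' : ↥Cfsg.Spor.M11 := ((z : S) : ↥Cfsg.Spor.M11) with hz'
  have hz'o : orderOf z' = 2 := by
    rw [hz', Subgroup.orderOf_coe, Subgroup.orderOf_coe, hz]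
  have hzS : z' ∈ S := (z : S).2
  have hzc : ∀ s ∈ S, s * z' = z' * s := by
    intro s hs
    have h1 := Subgroup.mem_center_iff.1 z.2 ⟨s, hs⟩
    exact congrArg Subtype.val h1
  obtain ⟨φ⟩ := Cfsg.Agent.Lib.Helper28.cent_involution_sporM11 z' hz'o
  have hSleZ : S ≤ Subgroup.centralizer ({z'} : Set ↥Cfsg.Spor.M11) := by
    intro s hs
    rw [Subgroup.mem_centralizer_singleton_iff]
    exact hzc s hs
  have hxz : x ∈ Subgroup.centralizer ({z'} : Set ↥Cfsg.Spor.M11) := by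
    rw [Subgroup.mem_centralizer_singleton_iff]
    have := hSle hzS
    rw [Subgroup.mem_centralizer_singleton_iff] at this
    exact this.symm
  -- inside the centralizer of `z'`
  set x₁ : ↥(Subgroup.centralizer ({z'} : Set ↥Cfsg.Spor.M11)) := ⟨x, hxz⟩ with hx₁
  set S₁ : Subgroup ↥(Subgroup.centralizer ({z'} : Set ↥Cfsg.Spor.M11)) :=
    S.subgroupOf (Subgroup.centralizer ({z'} : Set ↥Cfsg.Spor.M11)) with hS₁
  have hS₁card : Nat.card S₁ = 16 := by
    rw [hS₁, Nat.card_congr (Subgroup.subgroupOfEquivOfLe hSleZ).toEquiv, hScard]; norm_num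
  have hS₁c : ∀ s ∈ S₁, s * x₁ = x₁ * s := by
    intro s hs
    have h1 : (s : ↥Cfsg.Spor.M11) ∈ S := Subgroup.mem_subgroupOf.1 hs
    have h2 := hSle h1
    rw [Subgroup.mem_centralizer_singleton_iff] at h2
    apply Subtype.ext
    exact h2
  -- transport to `GL(2,3)`
  have hTle : S₁.map φ.toMonoidHom ≤
      Subgroup.centralizer ({φ x₁} : Set (GL (Fin 2) (ZMod 3))) := by
    rintro _ ⟨s, hs, rfl⟩
    rw [Subgroup.mem_centralizer_singleton_iff]
    show φ s * φ x₁ = φ x₁ * φ s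
    rw [← map_mul, ← map_mul, hS₁c s hs]
  have hTcard : Nat.card (S₁.map φ.toMonoidHom) = 16 := by
    rw [Subgroup.card_map_of_injective φ.injective, hS₁card]
  have h16 : 16 ∣ Nat.card (Subgroup.centralizer ({φ x₁} : Set (GL (Fin 2) (ZMod 3)))) := by
    rw [← hTcard]
    exact Subgroup.card_dvd_of_le hTle
  have hsq := GL23_sq_eq_one_of_sixteen_dvd (φ x₁) h16
  rw [← map_mul] at hsq
  have hsq' : x₁ * x₁ = 1 := φ.injective (by rw [hsq, map_one])
  exact congrArg Subtype.val hsq'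

end Cfsg.Agent.Lib.Helper28.M11CG
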