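import Mathlib
import Cfsg.Agent.Lib.Helper28.CG.Main
import Cfsg.Agent.Lib.Helper28.M11CG.Defs
import Cfsg.Agent.Lib.Helper28.M11CG.AutBound
import Cfsg.Agent.Lib.Helper28.M11CG.InvElts
import Cfsg.Agent.Lib.Helper28.M11CG.T1b
import Cfsg.Agent.Lib.Helper28.M11CG.B2

/-!
# S3413 (helper28): assembly

A finite group whose commuting graph is that of `M11` is isomorphic to `M11`.
-/

set_option autoImplicit false

namespace Cfsg.Agent.Lib.Helper28.M11CG

open Cfsg Cfsg.Agent.Lib.Helper28.CG

/-! ### restriction of graph automorphisms to `TT16` -/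

section Res

variable {X : Type*} [Group X] [Finite X]

theorem mem_TT16_map (σ : GAut X) (x : V X) : σ.1 x ∈ TT16 X ↔ x ∈ TT16 X := by
  rw [mem_TT16, mem_TT16, cdeg_eq_of_iso σ.1 ((mem_GAut σ.1).1 σ.2) x]

/-- restriction of a graph automorphism to the vertices with `16 ∣ |C(x)|` -/
def resTT : GAut X →* Equiv.Perm ↥(TT16 X) where
  toFun σ := σ.1.subtypePerm (mem_TT16_map σ)
  map_one' := by
    ext x
    simp
  map_mul' a b := by
    ext x
    rfl

theorem resTT_apply (σ : GAut X) (x : ↥(TT16 X)) : ((resTT σ x : ↥(TT16 X)) : V X) = σ.1 x.1 := rfl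

end Res

/-! ### the involutions of `M11` -/

/-- `M11` -/
abbrev M : Type := ↥Cfsg.Spor.M11

/-- the vertex of the involution number `i` -/
noncomputable def invoV (i : Fin 165) : V M := ⟨invo i, invo_ne_one i⟩

theorem mem_TT16_iff (x : V M) : x ∈ TT16 M ↔ x.1 * x.1 = 1 := by
  constructor
  · intro hx
    exact Arch.sq_eq_one_of_sixteen_dvd_spare x.1 hx
  · intro hx
    have : Fact (Nat.Prime 2) := ⟨Nat.prime_two⟩
    have ho : orderOf x.1 = 2 := orderOf_eq_prime (by rw [pow_two]; exact hx) x.2
    obtain ⟨φ⟩ := Cfsg.Agent.Lib.Helper28.cent_involution_sporM11 x.1 ho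
    rw [mem_TT16]
    unfold cdeg
    rw [Nat.card_congr φ.toEquiv, Cfsg.Agent.Lib.Helper28.card_GL23]
    norm_num

theorem invoV_mem (i : Fin 165) : invoV i ∈ TT16 M := (mem_TT16_iff _).2 (invo_mul_self i)

theorem invoV_injective : Function.Injective invoV := by
  intro i j h
  exact invo_injective (congrArg Subtype.val h)

theorem exists_invoV (x : V M) (hx : x ∈ TT16 M) : ∃ i, invoV i = x := by
  have hsq := (mem_TT16_iff x).1 hx
  let F : Fin 165 → {y : M // y ≠ 1 ∧ y * y = 1} := fun i =>
    ⟨invo i, invo_ne_one i, invo_mul_self i⟩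
  have hF : Function.Injective F := by
    intro i j h
    exact invo_injective (congrArg Subtype.val h)
  have hfin : Finite {y : M // y ≠ 1 ∧ y * y = 1} :=
    Nat.finite_of_card_ne_zero (by rw [Arch.card_involutions_M11_spare]; norm_num)
  have hb : Function.Bijective F :=
    hF.bijective_of_nat_card_le (by rw [Arch.card_involutions_M11_spare]; simp)
  obtain ⟨i, hi⟩ := hb.2 ⟨x.1, x.2, hsq⟩
  refine ⟨i, Subtype.ext ?_⟩
  exact congrArg (fun t : {y : M // y ≠ 1 ∧ y * y = 1} => (t : M)) hi

/-- the 165 involutions are the vertices of `TT16` -/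
noncomputable def eTT : Fin 165 ≃ ↥(TT16 M) :=
  Equiv.ofBijective (fun i => ⟨invoV i, invoV_mem i⟩)
    ⟨fun i j h => invoV_injective (congrArg Subtype.val h), fun x => by
      obtain ⟨i, hi⟩ := exists_invoV x.1 x.2
      exact ⟨i, Subtype.ext hi⟩⟩

theorem eTT_apply (i : Fin 165) : ((eTT i : ↥(TT16 M)) : V M) = invoV i := rfl

theorem InvAdj_irrefl : ∀ i : Fin 165, ¬ InvAdj i i := by decide +kernel

theorem adj_iff (i j : Fin 165) : InvAdj i j ↔ (i ≠ j ∧ comm (invoV i) (invoV j)) := by
  have h := invo_comm_iff i j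
  constructor
  · intro ha
    refine ⟨?_, h.2 (Or.inl ha)⟩
    rintro rfl
    exact InvAdj_irrefl i ha
  · rintro ⟨hne, hc⟩
    rcases h.1 hc with ha | he
    · exact ha
    · exact absurd he hne

/-- the action of the automorphism group of the commuting graph of `M11` on the involutions -/
noncomputable def PhiM : GAut M →* Equiv.Perm (Fin 165) :=
  (eTT.symm.permCongrHom : Equiv.Perm ↥(TT16 M) ≃* Equiv.Perm (Fin 165)).toMonoidHom.comp resTT

theorem invoV_PhiM (σ : GAut M) (i : Fin 165) : invoV (PhiM σ i) = σ.1 (invoV i) := by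
  have h1 : PhiM σ i = eTT.symm (resTT σ (eTT i)) := rfl
  rw [h1, ← eTT_apply, Equiv.apply_symm_apply, resTT_apply, eTT_apply]

theorem PhiM_mem (σ : GAut M) : PhiM σ ∈ InvAut := by
  intro i j
  rw [adj_iff, adj_iff, invoV_PhiM, invoV_PhiM, (mem_GAut σ.1).1 σ.2]
  constructor
  · rintro ⟨hne, hc⟩
    exact ⟨fun e => hne (by rw [e]), hc⟩
  · rintro ⟨hne, hc⟩
    exact ⟨fun e => hne ((PhiM σ).injective e), hc⟩

/-- the action on the involution graph -/
noncomputable def PsiM : GAut M →* InvAut := PhiM.codRestrict InvAut PhiM_mem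

theorem PsiM_apply (σ : GAut M) : ((PsiM σ : InvAut) : Equiv.Perm (Fin 165)) = PhiM σ := rfl

/-! ### the embedding -/

section Embed

variable {H : Type*} [Group H] [Finite H] (f : V H ≃ V M)
  (hf : ∀ x y, comm (f x) (f y) ↔ comm x y)

/-- the action of `H` on the involution graph -/
noncomputable def rhoM : H →* InvAut := (PsiM.comp (transp f hf)).comp (conjHom H)

include hf in
theorem card_eq_M : Nat.card H = 7920 := by
  have h1 := card_V H
  have h2 := card_V M
  rw [Nat.card_congr f] at h1
  have h3 : Nat.card M = 7920 := Cfsg.Agent.Lib.Helper28.card_sporM11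
  omega

omit [Finite H] in
theorem rhoM_injective : Function.Injective (rhoM f hf) := by
  rw [injective_iff_map_eq_one]
  intro h hh
  by_contra hne
  set k : V H := ⟨h, hne⟩ with hk
  have key : ∀ i : Fin 165, comm (f k) (invoV i) := by
    intro i
    have h0 : PhiM (transp f hf (conjHom H h)) = 1 := by
      have := congrArg (fun t : InvAut => (t : Equiv.Perm (Fin 165))) hh
      simpa [rhoM, PsiM_apply] using this
    have h1 := invoV_PhiM (transp f hf (conjHom H h)) i
    rw [h0, Equiv.Perm.one_apply, transp_apply] at h1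
    have h2 := f.injective (h1.symm.trans (f.apply_symm_apply (invoV i)).symm)
    have h3 := congrArg Subtype.val h2
    rw [conjHom_apply] at h3
    have h4 : comm k (f.symm (invoV i)) := by
      unfold CG.comm
      rw [hk]
      simp only
      calc h * (f.symm (invoV i)).1 = (h * (f.symm (invoV i)).1 * h⁻¹) * h := by group
        _ = (f.symm (invoV i)).1 * h := by rw [h3]
    rw [← hf] at h4
    rwa [Equiv.apply_symm_apply] at h4
  have hone : (f k).1 = 1 := by
    apply eq_one_of_comm_invo
    intro i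
    exact key i
  exact (f k).2 hone

end Embed

/-- **The commuting graph determines `M11`.** -/
theorem nonempty_mulEquiv_M11 {H : Type*} [Group H] [Finite H] (f : V H ≃ V M)
    (hf : ∀ x y, comm (f x) (f y) ↔ comm x y) : Nonempty (H ≃* M) := by
  have hS : ∀ x y : V M, comm ((Equiv.refl (V M)) x) ((Equiv.refl (V M)) y) ↔ comm x y :=
    fun x y => Iff.rfl
  have hfinM : Finite M := Nat.finite_of_card_ne_zero (by
    rw [Cfsg.Agent.Lib.Helper28.card_sporM11]; norm_num)
  have b₁ : Function.Bijective (rhoM (Equiv.refl (V M)) hS) :=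
    (rhoM_injective _ hS).bijective_of_nat_card_le (by
      rw [card_eq_M (Equiv.refl (V M)) hS]; exact card_InvAut_le)
  have b₂ : Function.Bijective (rhoM f hf) :=
    (rhoM_injective f hf).bijective_of_nat_card_le (by
      rw [card_eq_M f hf]; exact card_InvAut_le)
  exact ⟨(MulEquiv.ofBijective _ b₂).trans (MulEquiv.ofBijective _ b₁).symm⟩

end Cfsg.Agent.Lib.Helper28.M11CG
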